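import Groth.Agent.Lib.Helper22.GaAcyc.ASRing
import Groth.Agent.S18415

set_option autoImplicit false
set_option linter.unusedSectionVars false
universe u
open CategoryTheory CategoryTheory.Limits Opposite AlgebraicGeometry

namespace Groth.Agent.Lib.Helper22.GaAcyc.AS

open Groth.Agent.Lib.Helper22.CechU.Etale

section Sheaf

variable (S : Scheme.{u}) (p : ℕ) [hp : Fact p.Prime] (h0 : (p : Γ(S, ⊤)) = 0)

/-- The group `ℤ/p`, one universe up. -/
abbrev M₀ : AddCommGrpCat.{u + 1} := AddCommGrpCat.of (ULift.{u + 1} (ZMod p))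

/-- The constant presheaf `ℤ/p`. -/
abbrev P₀ : S.Etaleᵒᵖ ⥤ AddCommGrpCat.{u + 1} := (Functor.const _).obj (M₀.{u} p)

include h0 in
lemma h0V (V : S.Etale) : (p : Γ(V.left, ⊤)) = 0 :=
  W4c5etcohweilstudent.natCast_eq_zero_etale p h0 V

/-- The map `ℤ/p → Γ(V, O_V)`, one universe up. -/
def ψfun (V : S.Etale) : ULift.{u + 1} (ZMod p) →+ ULift.{u + 1} Γ(V.left, ⊤) :=
  (AddEquiv.ulift.symm.toAddMonoidHom).comp
    ((castAdd p Γ(V.left, ⊤) (h0V S p h0 V)).comp AddEquiv.ulift.toAddMonoidHom)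

lemma ψfun_down (V : S.Etale) (a : ULift.{u + 1} (ZMod p)) :
    (ψfun S p h0 V a).down = castAdd p Γ(V.left, ⊤) (h0V S p h0 V) a.down := rfl

/-- The map from the constant presheaf `ℤ/p` to `G_a`. -/
noncomputable def ψ : P₀ S p ⟶ (EtCoh.Ga S).obj where
  app V := AddCommGrpCat.ofHom (ψfun S p h0 V.unop)
  naturality := by
    intro V W g
    ext a
    apply ULift.ext
    refine Eq.trans ?_ (Groth.Agent.S18415.Ga_map_down S g.unop _).symm
    exact (map_castAdd p (h0V S p h0 V.unop) (h0V S p h0 W.unop) g.unop.left.appTop.hom a.down).symm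

/-- The map from the constant sheaf `ℤ/p` to `G_a`. -/
noncomputable def fAS : EtCoh.const S (ZMod p) ⟶ EtCoh.Ga S :=
  ⟨sheafifyLift S.smallEtaleTopology (ψ S p h0) (EtCoh.Ga S).property⟩

lemma toSheafify_fAS : toSheafify S.smallEtaleTopology (P₀ S p) ≫ (fAS S p h0).hom = ψ S p h0 :=
  toSheafify_sheafifyLift _ _ _



/-- The Artin–Schreier endomorphism. -/
noncomputable abbrev gAS : EtCoh.Ga S ⟶ EtCoh.Ga S :=
  W4c5etcohweilstudent.artinSchreierEndo S p hp.out h0

lemma ψ_gAS : ψ S p h0 ≫ (gAS S p h0).hom = 0 := by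
  ext V a
  apply ULift.ext
  refine (Groth.Agent.S18415.as_app S p hp.out h0 V.unop _).trans ?_
  show (ψfun S p h0 V.unop a).down ^ p - (ψfun S p h0 V.unop a).down = 0
  rw [ψfun_down, castAdd_pow, sub_self]

lemma fAS_gAS : fAS S p h0 ≫ gAS S p h0 = 0 := by
  apply Sheaf.hom_ext
  refine sheafify_hom_ext S.smallEtaleTopology ((fAS S p h0).hom ≫ (gAS S p h0).hom) 0
    (EtCoh.Ga S).property ?_
  have h2 := congrArg (fun φ => φ ≫ (gAS S p h0).hom) (toSheafify_fAS S p h0)
  simp only [Category.assoc] at h2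
  exact h2.trans ((ψ_gAS S p h0).trans comp_zero.symm)



omit hp in
/-- An étale scheme with no nonzero functions is covered by any sieve. -/
lemma mem_of_subsingleton (V : S.Etale) (h : Subsingleton Γ(V.left, ⊤)) (R : Sieve V) :
    R ∈ S.smallEtaleTopology V := by
  rw [mem_smallEtaleTopology_iff]
  intro x
  exfalso
  have : Nonempty ((⊤ : V.left.Opens)) := ⟨⟨x, trivial⟩⟩
  have := Scheme.component_nontrivial V.left ⊤
  exact not_subsingleton _ h

instance isLocallyInjective_ψ :
    Presheaf.IsLocallyInjective S.smallEtaleTopology (ψ S p h0) where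
  equalizerSieve_mem {V} a a' h := by
    by_cases haa : a = a'
    · subst haa
      rw [Presheaf.equalizerSieve_self_eq_top]
      exact S.smallEtaleTopology.top_mem _
    · apply mem_of_subsingleton
      by_contra hnt
      rw [not_subsingleton_iff_nontrivial] at hnt
      apply haa
      have h1 : castAdd p Γ(V.unop.left, ⊤) (h0V S p h0 V.unop) a.down =
          castAdd p Γ(V.unop.left, ⊤) (h0V S p h0 V.unop) a'.down := congrArg ULift.down h
      exact ULift.ext _ _ (castAdd_injective p _ h1)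

lemma mono_fAS : Mono (fAS S p h0) := by
  have hs : Presheaf.IsLocallySurjective S.smallEtaleTopology
      (toSheafify S.smallEtaleTopology (P₀ S p)) := inferInstance
  have h1 : Presheaf.IsLocallyInjective S.smallEtaleTopology
      (toSheafify S.smallEtaleTopology (P₀ S p) ≫ (fAS S p h0).hom) := by
    rw [toSheafify_fAS]
    infer_instance
  have : Presheaf.IsLocallyInjective S.smallEtaleTopology (fAS S p h0).hom :=
    Presheaf.isLocallyInjective_of_isLocallyInjective_of_isLocallySurjective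
      S.smallEtaleTopology (toSheafify S.smallEtaleTopology (P₀ S p)) (fAS S p h0).hom
  exact Sheaf.mono_of_isLocallyInjective _



/-- The constant sections of the constant sheaf. -/
noncomputable def tsec (V : S.Etale) (a : ULift.{u + 1} (ZMod p)) :
    (EtCoh.const S (ZMod p)).obj.obj (op V) :=
  (toSheafify S.smallEtaleTopology (P₀ S p)).app (op V) a

lemma fAS_tsec (V : S.Etale) (a : ULift.{u + 1} (ZMod p)) :
    (fAS S p h0).hom.app (op V) (tsec S p V a) = ψfun S p h0 V a :=
  congrArg (fun φ : P₀ S p ⟶ (EtCoh.Ga S).obj => (φ.app (op V)) a) (toSheafify_fAS S p h0)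

open Groth.Agent.Lib.Helper22.CechU.Site in
lemma isLocallySurjective_lift :
    Sheaf.IsLocallySurjective (kernel.lift (gAS S p h0) (fAS S p h0) (fAS_gAS S p h0)) := by
  refine ⟨fun {V} k => ?_⟩
  rw [mem_smallEtaleTopology_iff]
  intro x
  let ι := kernel.ι (gAS S p h0)
  let L := kernel.lift (gAS S p h0) (fAS S p h0) (fAS_gAS S p h0)
  have hLι : L ≫ ι = fAS S p h0 := kernel.lift_ι _ _ _
  let y : ULift.{u + 1} Γ(V.left, ⊤) := ι.hom.app (op V) k
  have hy0 : (gAS S p h0).hom.app (op V) y = 0 := by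
    have h1 : ι ≫ gAS S p h0 = 0 := kernel.condition _
    have h2 := congrArg (fun φ : kernel (gAS S p h0) ⟶ EtCoh.Ga S => (φ.hom.app (op V)) k) h1
    exact h2
  have hy1 : y.down ^ p = y.down := by
    have h3 := (Groth.Agent.S18415.as_app S p hp.out h0 V y).symm.trans (congrArg ULift.down hy0)
    exact sub_eq_zero.mp h3
  obtain ⟨n, W, hxW, hres⟩ := exists_local p V.left (h0V S p h0 V) y.down hy1 x
  have hE : Etale (V.hom : V.left ⟶ S) := V.prop
  let W' : S.Etale := Scheme.Etale.mk (W.ι ≫ V.hom)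
  let i : W' ⟶ V := MorphismProperty.Over.homMk W.ι rfl trivial
  refine ⟨W', i, ⟨x, hxW⟩, ?_, rfl⟩
  refine ⟨tsec S p W' (ULift.up ((n : ℤ) : ZMod p)), ?_⟩
  have hinj := injective_app_of_mono ι W'
  apply hinj
  have e1 : ι.hom.app (op W') (L.hom.app (op W') (tsec S p W' (ULift.up ((n : ℤ) : ZMod p)))) =
      ψfun S p h0 W' (ULift.up ((n : ℤ) : ZMod p)) := by
    rw [← fAS_tsec]
    exact congrArg (fun φ : EtCoh.const S (ZMod p) ⟶ EtCoh.Ga S =>
      (φ.hom.app (op W')) (tsec S p W' (ULift.up ((n : ℤ) : ZMod p)))) hLι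
  have e2 : ι.hom.app (op W') ((kernel (gAS S p h0)).obj.map i.op k) =
      (EtCoh.Ga S).obj.map i.op y :=
    NatTrans.naturality_apply ι.hom i.op k
  refine e1.trans (Eq.trans ?_ e2.symm)
  apply ULift.ext
  refine Eq.trans ?_ (Groth.Agent.S18415.Ga_map_down S i y).symm
  rw [ψfun_down]
  show castAdd p Γ(W'.left, ⊤) (h0V S p h0 W') ((n : ℤ) : ZMod p) = W.ι.appTop.hom y.down
  rw [castAdd_intCast]
  have h4 := hres
  rw [map_sub, map_intCast, sub_eq_zero] at h4
  exact h4.symm



/-- The Artin–Schreier sequence `0 → ℤ/p → G_a → G_a → 0` on the small étale site. -/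
lemma shortExact_AS :
    (ShortComplex.mk (fAS S p h0) (gAS S p h0) (fAS_gAS S p h0)).ShortExact := by
  have hm := mono_fAS S p h0
  have he : Epi (gAS S p h0) := Groth.Agent.S18415.epi_as p hp.out h0
  have hex : (ShortComplex.mk (fAS S p h0) (gAS S p h0) (fAS_gAS S p h0)).Exact := by
    rw [ShortComplex.exact_iff_epi_kernel_lift]
    have := isLocallySurjective_lift S p h0
    exact Sheaf.epi_of_isLocallySurjective _
  exact ShortComplex.ShortExact.mk' hex hm he

include h0 in
open Abelian in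
/-- `H^q(S_ét, ℤ/p) = 0` for `q ≥ 2` on an affine scheme of characteristic `p`. -/
theorem H_const_eq_zero [IsAffine S] (n : ℕ)
    (x : EtCoh.H S (EtCoh.const S (ZMod p)) (n + 2)) : x = 0 := by
  have hT := shortExact_AS S p h0
  have h1 : x.comp (Ext.mk₀ (fAS S p h0)) (add_zero (n + 2)) = 0 := H_Ga_eq_zero S (n + 1) _
  obtain ⟨x₃, hx₃⟩ := Ext.covariant_sequence_exact₁ _ hT x h1 (rfl : (n + 1) + 1 = n + 2)
  have h3 : x₃ = 0 := H_Ga_eq_zero S n x₃
  rw [← hx₃, h3, Ext.zero_comp]

end Sheaf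

end Groth.Agent.Lib.Helper22.GaAcyc.AS
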