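import Groth.Agent.Lib.Helper22.GaAcyc.Main
import Groth.Prelude.Def_W4c5etcohweilstudentAS

set_option autoImplicit false
set_option linter.unusedSectionVars false
universe u
open CategoryTheory CategoryTheory.Limits Opposite AlgebraicGeometry

namespace Groth.Agent.Lib.Helper22.GaAcyc.AS

section Ring

variable (p : ℕ) [hp : Fact p.Prime] (R : Type*) [CommRing R] (h0 : (p : R) = 0)

/-- The canonical additive map `ℤ/p → R` when `p = 0` in `R`. -/
def castAdd : ZMod p →+ R :=
  ZMod.lift p ⟨Int.castAddHom R, by simpa using h0⟩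

variable {R}

lemma castAdd_intCast (k : ℤ) : castAdd p R h0 (k : ZMod p) = (k : R) := by
  unfold castAdd
  rw [ZMod.lift_coe]
  rfl

lemma map_castAdd {R' : Type*} [CommRing R'] (h0' : (p : R') = 0) (φ : R →+* R') (a : ZMod p) :
    φ (castAdd p R h0 a) = castAdd p R' h0' a := by
  obtain ⟨k, rfl⟩ := ZMod.intCast_surjective a
  rw [castAdd_intCast, castAdd_intCast, map_intCast]

include h0 in
lemma intCast_pow (k : ℤ) : ((k : R)) ^ p = (k : R) := by
  have h1 : ((k ^ p : ℤ) : ZMod p) = (k : ZMod p) := by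
    push_cast
    exact ZMod.pow_card _
  rw [ZMod.intCast_eq_intCast_iff_dvd_sub] at h1
  obtain ⟨c, hc⟩ := h1
  have h2 : (k : R) - (k : R) ^ p = (p : R) * (c : R) := by
    have := congrArg (Int.cast (R := R)) hc
    push_cast at this
    exact this
  rw [h0, zero_mul, sub_eq_zero] at h2
  exact h2.symm

lemma castAdd_pow (a : ZMod p) : (castAdd p R h0 a) ^ p = castAdd p R h0 a := by
  obtain ⟨k, rfl⟩ := ZMod.intCast_surjective a
  rw [castAdd_intCast, intCast_pow p h0]

include hp h0 in
lemma charP_of_nontrivial [Nontrivial R] : CharP R p := by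
  have hc : ringChar R = p := CharP.ringChar_of_prime_eq_zero hp.out h0
  exact hc ▸ (ringChar.charP R)

lemma castAdd_injective [Nontrivial R] : Function.Injective (castAdd p R h0) := by
  rw [injective_iff_map_eq_zero]
  intro a ha
  obtain ⟨k, rfl⟩ := ZMod.intCast_surjective a
  rw [castAdd_intCast] at ha
  have := charP_of_nontrivial p h0
  rw [CharP.intCast_eq_zero_iff R p] at ha
  rwa [ZMod.intCast_zmod_eq_zero_iff_dvd]

include hp h0 in
lemma sub_pow_prime (a b : R) : (a - b) ^ p = a ^ p - b ^ p := by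
  have h := W4c5etcohweilstudent.add_pow_prime_of_natCast_eq_zero p hp.out h0 (a - b) b
  rw [sub_add_cancel] at h
  rw [h, add_sub_cancel_right]

end Ring


section Local

variable (p : ℕ) [hp : Fact p.Prime]

/-- A function `y` with `y ^ p = y` on a scheme of characteristic `p` is locally an integer. -/
lemma exists_local (X : Scheme.{u}) (h0 : (p : Γ(X, ⊤)) = 0) (y : Γ(X, ⊤)) (hy : y ^ p = y) (x : X) :
    ∃ (n : ℤ) (W : X.Opens), x ∈ W ∧ W.ι.appTop.hom (y - (n : Γ(X, ⊤))) = 0 := by
  let ev : Γ(X, ⊤) →+* X.residueField x := (X.Γevaluation x).hom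
  have hκ0 : (p : X.residueField x) = 0 := by
    have := congrArg ev h0
    rwa [map_natCast, map_zero] at this
  have hchar : CharP (X.residueField x) p := charP_of_nontrivial p hκ0
  have hy' : (ev y) ^ p = ev y := by rw [← map_pow, hy]
  obtain ⟨n, hn⟩ := (mem_bot_iff_intCast p (X.residueField x)).1
    ((Subfield.mem_bot_iff_pow_eq_self (X.residueField x) p).2 hy')
  let t : Γ(X, ⊤) := y - (n : Γ(X, ⊤))
  have ht0 : ev t = 0 := by
    show ev (y - (n : Γ(X, ⊤))) = 0
    rw [map_sub, map_intCast, hn, sub_self]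
  have htp : t ^ p = t := by
    show (y - (n : Γ(X, ⊤))) ^ p = y - (n : Γ(X, ⊤))
    rw [sub_pow_prime p h0, hy, intCast_pow p h0]
  have hp1 : p - 1 ≠ 0 := by
    have := hp.out.two_le
    omega
  let e : Γ(X, ⊤) := 1 - t ^ (p - 1)
  have hte : t * e = 0 := by
    show t * (1 - t ^ (p - 1)) = 0
    have h1 : t * t ^ (p - 1) = t ^ p := by
      rw [← pow_succ']
      congr 1
      have := hp.out.two_le
      omega
    rw [mul_sub, mul_one, h1, htp, sub_self]
  have hev : ev e = 1 := by
    show ev (1 - t ^ (p - 1)) = 1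
    rw [map_sub, map_one, map_pow, ht0, zero_pow hp1, sub_zero]
  have hxW : x ∈ X.basicOpen e := by
    rw [← Scheme.evaluation_ne_zero_iff_mem_basicOpen X (U := ⊤) x trivial e]
    show ev e ≠ 0
    rw [hev]
    exact one_ne_zero
  refine ⟨n, X.basicOpen e, hxW, ?_⟩
  show (X.basicOpen e).ι.appTop.hom t = 0
  have hunit : IsUnit ((X.basicOpen e).ι.appTop.hom e) := by
    have h1 := X.toRingedSpace.isUnit_res_basicOpen e
    have h2 : (X.basicOpen e).ι.appTop =
        X.presheaf.map (homOfLE (X.basicOpen_le e)).op ≫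
          X.presheaf.map (homOfLE (le_of_eq (X.basicOpen e).ι_image_top)).op := by
      rw [← Functor.map_comp]
      rfl
    rw [h2]
    exact h1.map (X.presheaf.map (homOfLE (le_of_eq (X.basicOpen e).ι_image_top)).op).hom
  have h3 : (X.basicOpen e).ι.appTop.hom t * (X.basicOpen e).ι.appTop.hom e = 0 := by
    rw [← map_mul, hte, map_zero]
  exact (hunit.mul_left_eq_zero).1 h3

end Local

end Groth.Agent.Lib.Helper22.GaAcyc.AS
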