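import Groth.Agent.Lib.Helper22.GaAcyc.Basis
import Groth.Prelude.Def_EtGm

set_option autoImplicit false
set_option linter.unusedSectionVars false
universe u
open CategoryTheory CategoryTheory.Limits Opposite AlgebraicGeometry TensorProduct

namespace Groth.Agent.Lib.Helper22.GaAcyc
open Groth.Agent.Lib.Helper22.CechU Groth.Agent.Lib.Helper22.CechU.Site
open Groth.Agent.Lib.Helper22.CechU.Etale Groth.Agent.Lib.Helper22.EtLoc

variable {S : Scheme.{u}} {U : S.Etale}

/-- Functions on the underlying scheme of an object over `U`. -/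
abbrev AA (V : Over U) : Type u := Γ(V.left.left, ⊤)

/-- Functions on `U`. -/
abbrev RR (U : S.Etale) : Type u := Γ(U.left, ⊤)

noncomputable instance algV (V : Over U) : Algebra (RR U) (AA V) := (V.hom.left.appTop.hom).toAlgebra

lemma algebraMap_AA (V : Over U) (r : RR U) : algebraMap (RR U) (AA V) r = V.hom.left.appTop.hom r := rfl

/-- Pullback of functions. -/
noncomputable def pull {V W : Over U} (f : V ⟶ W) : AA W →ₐ[RR U] AA V :=
  { f.left.left.appTop.hom with
    commutes' := fun r => by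
      show f.left.left.appTop.hom (W.hom.left.appTop.hom r) = V.hom.left.appTop.hom r
      have h : f.left.left ≫ W.hom.left = V.hom.left :=
        congrArg (fun g => g.left) (Over.w f)
      rw [← h, Scheme.Hom.comp_appTop]
      rfl }

lemma pull_apply {V W : Over U} (f : V ⟶ W) (x : AA W) : pull f x = f.left.left.appTop.hom x := rfl

lemma pull_id (V : Over U) (x : AA V) : pull (𝟙 V) x = x := by
  rw [pull_apply]
  have : (𝟙 V : V ⟶ V).left.left = 𝟙 V.left.left := rfl
  rw [this, Scheme.Hom.id_appTop]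
  rfl

lemma pull_comp {V W Z : Over U} (f : V ⟶ W) (g : W ⟶ Z) (x : AA Z) :
    pull (f ≫ g) x = pull f (pull g x) := by
  rw [pull_apply, pull_apply, pull_apply]
  have : (f ≫ g).left.left = f.left.left ≫ g.left.left := rfl
  rw [this, Scheme.Hom.comp_appTop]
  rfl

/-- The presheaf in question. -/
noncomputable abbrev PG (U : S.Etale) : (Over U)ᵒᵖ ⥤ AddCommGrpCat.{u + 1} := rP (EtCoh.Ga S).obj

/-- Underlying function of a section. -/
def dn {V : Over U} (x : (PG U).obj (op V)) : AA V := ULift.down (x : ULift.{u + 1} (AA V))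

/-- Section of a function. -/
def up {V : Over U} (x : AA V) : (PG U).obj (op V) := (ULift.up x : ULift.{u + 1} (AA V))

lemma dn_up {V : Over U} (x : AA V) : dn (up x) = x := rfl
lemma up_dn {V : Over U} (x : (PG U).obj (op V)) : up (dn x) = x := by with_unfolding_all rfl
lemma dn_add {V : Over U} (x y : (PG U).obj (op V)) : dn (x + y) = dn x + dn y := by with_unfolding_all rfl
lemma dn_zero {V : Over U} : dn (0 : (PG U).obj (op V)) = 0 := by with_unfolding_all rfl
lemma dn_map {V W : Over U} (f : V ⟶ W) (x : (PG U).obj (op W)) :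
    dn ((PG U).map f.op x) = pull f (dn x) := by with_unfolding_all rfl
lemma dn_injective {V : Over U} : Function.Injective (dn : (PG U).obj (op V) → AA V) := by
  intro x y h
  rw [← up_dn x, ← up_dn y, h]


section Tuples

variable {ι : Type (u + 1)} (Y : ι → Over U)

/-- Families of functions indexed by the members of the covering. -/
abbrev BB : Type (u + 1) := ∀ i : ι, AA (Y i)

/-- Čech cochains as a product. -/
abbrev NN (n : ℕ) : Type (u + 1) := ∀ σ : Fin (n + 1) → ι, AA (Uσ Y σ)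

variable {Y}

/-- Evaluation of a family of functions at a morphism to a member. -/
noncomputable def evB (b : BB Y) {V : Over U} (s : SV Y V) : AA V := pull s.2 (b s.1)

/-- Evaluation of a cochain on a tuple of morphisms. -/
noncomputable def evN {n : ℕ} (c : NN Y n) {V : Over U} (t : T Y n V) : AA V :=
  pull (toProd Y t) (c (idx Y t))

lemma evB_pre (b : BB Y) {V W : Over U} (h : W ⟶ V) (s : SV Y V) :
    evB b (SV.pre Y h s) = pull h (evB b s) := by
  unfold evB
  exact pull_comp h s.2 _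

lemma evN_pre {n : ℕ} (c : NN Y n) {V W : Over U} (h : W ⟶ V) (t : T Y n V) :
    evN c (T.pre Y h t) = pull h (evN c t) := by
  have key : ∀ (φ ψ : W ⟶ Uσ Y (idx Y t)), φ = ψ →
      pull φ (c (idx Y t)) = pull ψ (c (idx Y t)) := by
    intro φ ψ e
    rw [e]
  refine (key (toProd Y (T.pre Y h t)) (h ≫ toProd Y t) (toProd_pre Y h t)).trans ?_
  exact pull_comp h (toProd Y t) _

lemma evN_can {n : ℕ} (c : NN Y n) (σ : Fin (n + 1) → ι) : evN c (can Y σ) = c σ := by
  unfold evN
  rw [toProd_can]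
  exact pull_id _ _

/-- A cochain defined by a natural formula evaluates by that formula. -/
lemma evN_ofNat {n : ℕ} (Φ : ∀ {V : Over U}, T Y n V → AA V)
    (hΦ : ∀ {V W : Over U} (h : W ⟶ V) (t : T Y n V), Φ (T.pre Y h t) = pull h (Φ t))
    {V : Over U} (t : T Y n V) :
    evN (fun σ => Φ (can Y σ)) t = Φ t := by
  unfold evN
  rw [← hΦ, pre_can]

lemma evN_add {n : ℕ} (c c' : NN Y n) {V : Over U} (t : T Y n V) :
    evN (c + c') t = evN c t + evN c' t := by
  unfold evN
  rw [Pi.add_apply, map_add]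

lemma evN_smul {n : ℕ} (r : RR U) (c : NN Y n) {V : Over U} (t : T Y n V) :
    evN (r • c) t = r • evN c t := by
  unfold evN
  rw [Pi.smul_apply, map_smul]

lemma evN_zero {n : ℕ} {V : Over U} (t : T Y n V) : evN (0 : NN Y n) t = 0 := by
  unfold evN
  rw [Pi.zero_apply, map_zero]

lemma evB_add (b b' : BB Y) {V : Over U} (s : SV Y V) : evB (b + b') s = evB b s + evB b' s := by
  unfold evB
  rw [Pi.add_apply, map_add]

lemma evB_smul (r : RR U) (b : BB Y) {V : Over U} (s : SV Y V) : evB (r • b) s = r • evB b s := by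
  unfold evB
  rw [Pi.smul_apply, map_smul]

lemma evB_one {V : Over U} (s : SV Y V) : evB (1 : BB Y) s = 1 := by
  unfold evB
  rw [Pi.one_apply, map_one]

lemma ext_evN {n : ℕ} (c c' : NN Y n) (h : ∀ σ, evN c (can Y σ) = evN c' (can Y σ)) : c = c' := by
  funext σ
  rw [← evN_can c σ, ← evN_can c' σ]
  exact h σ

end Tuples


section Ops

variable {ι : Type (u + 1)} {Y : ι → Over U}

/-- The natural formula for the Čech differential. -/
noncomputable def Φδ {n : ℕ} (c : NN Y n) {V : Over U} (t : T Y (n + 1) V) : AA V :=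
  ∑ k : Fin (n + 2), (-1 : ℤ) ^ (k : ℕ) • evN c (t ∘ k.succAbove)

lemma Φδ_pre {n : ℕ} (c : NN Y n) {V W : Over U} (h : W ⟶ V) (t : T Y (n + 1) V) :
    Φδ c (T.pre Y h t) = pull h (Φδ c t) := by
  unfold Φδ
  rw [map_sum]
  refine Finset.sum_congr rfl fun k _ => ?_
  rw [map_zsmul, ← evN_pre]
  rfl

/-- The Čech differential on products. -/
noncomputable def δ {n : ℕ} (c : NN Y n) : NN Y (n + 1) := fun τ => Φδ c (can Y τ)

lemma evN_δ {n : ℕ} (c : NN Y n) {V : Over U} (t : T Y (n + 1) V) :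
    evN (δ c) t = ∑ k : Fin (n + 2), (-1 : ℤ) ^ (k : ℕ) • evN c (t ∘ k.succAbove) :=
  evN_ofNat (fun t => Φδ c t) (fun h t => Φδ_pre c h t) t

/-- The natural formula for the décalage differential (all cofaces but the first). -/
noncomputable def Φdec {n : ℕ} (w : NN Y (n + 1)) {V : Over U} (t : T Y (n + 2) V) : AA V :=
  ∑ j : Fin (n + 2), (-1 : ℤ) ^ (j : ℕ) • evN w (t ∘ j.succ.succAbove)

lemma Φdec_pre {n : ℕ} (w : NN Y (n + 1)) {V W : Over U} (h : W ⟶ V) (t : T Y (n + 2) V) :
    Φdec w (T.pre Y h t) = pull h (Φdec w t) := by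
  unfold Φdec
  rw [map_sum]
  refine Finset.sum_congr rfl fun k _ => ?_
  rw [map_zsmul, ← evN_pre]
  rfl

/-- The décalage differential. -/
noncomputable def dDecFun {n : ℕ} (w : NN Y (n + 1)) : NN Y (n + 2) := fun τ => Φdec w (can Y τ)

lemma evN_dDecFun {n : ℕ} (w : NN Y (n + 1)) {V : Over U} (t : T Y (n + 2) V) :
    evN (dDecFun w) t = ∑ j : Fin (n + 2), (-1 : ℤ) ^ (j : ℕ) • evN w (t ∘ j.succ.succAbove) :=
  evN_ofNat (fun t => Φdec w t) (fun h t => Φdec_pre w h t) t

/-- The natural formula for the multiplication map. -/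
noncomputable def ΦΘ {n : ℕ} (b : BB Y) (c : NN Y n) {V : Over U} (t : T Y (n + 1) V) : AA V :=
  evB b (t 0) * evN c (t ∘ Fin.succ)

lemma ΦΘ_pre {n : ℕ} (b : BB Y) (c : NN Y n) {V W : Over U} (h : W ⟶ V) (t : T Y (n + 1) V) :
    ΦΘ b c (T.pre Y h t) = pull h (ΦΘ b c t) := by
  unfold ΦΘ
  rw [map_mul, ← evN_pre, ← evB_pre]
  rfl

/-- The multiplication map on pairs. -/
noncomputable def ΘFun {n : ℕ} (b : BB Y) (c : NN Y n) : NN Y (n + 1) := fun τ => ΦΘ b c (can Y τ)

lemma evN_ΘFun {n : ℕ} (b : BB Y) (c : NN Y n) {V : Over U} (t : T Y (n + 1) V) :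
    evN (ΘFun b c) t = evB b (t 0) * evN c (t ∘ Fin.succ) :=
  evN_ofNat (fun t => ΦΘ b c t) (fun h t => ΦΘ_pre b c h t) t

/-- The differential as a linear map. -/
noncomputable def δL (n : ℕ) : NN Y n →ₗ[RR U] NN Y (n + 1) where
  toFun := δ
  map_add' c c' := by
    apply ext_evN
    intro σ
    rw [evN_add, evN_δ, evN_δ, evN_δ, ← Finset.sum_add_distrib]
    refine Finset.sum_congr rfl fun k _ => ?_
    rw [evN_add, smul_add]
  map_smul' r c := by
    apply ext_evN
    intro σ
    rw [RingHom.id_apply, evN_smul, evN_δ, evN_δ, Finset.smul_sum]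
    refine Finset.sum_congr rfl fun k _ => ?_
    rw [evN_smul, smul_comm]

/-- The décalage differential as an additive map. -/
noncomputable def dDec (n : ℕ) : NN Y (n + 1) →+ NN Y (n + 2) where
  toFun := dDecFun
  map_zero' := by
    apply ext_evN
    intro σ
    rw [evN_dDecFun, evN_zero]
    refine Finset.sum_eq_zero fun k _ => ?_
    rw [evN_zero, smul_zero]
  map_add' c c' := by
    apply ext_evN
    intro σ
    rw [evN_add, evN_dDecFun, evN_dDecFun, evN_dDecFun, ← Finset.sum_add_distrib]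
    refine Finset.sum_congr rfl fun k _ => ?_
    rw [evN_add, smul_add]

/-- The multiplication map as a bilinear map. -/
noncomputable def Θbil (n : ℕ) : BB Y →ₗ[RR U] NN Y n →ₗ[RR U] NN Y (n + 1) :=
  LinearMap.mk₂ (RR U) ΘFun
    (fun b b' c => by
      apply ext_evN
      intro σ
      rw [evN_add, evN_ΘFun, evN_ΘFun, evN_ΘFun, evB_add, add_mul])
    (fun r b c => by
      apply ext_evN
      intro σ
      rw [evN_smul, evN_ΘFun, evN_ΘFun, evB_smul, smul_mul_assoc])
    (fun b c c' => by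
      apply ext_evN
      intro σ
      rw [evN_add, evN_ΘFun, evN_ΘFun, evN_ΘFun, evN_add, mul_add])
    (fun r b c => by
      apply ext_evN
      intro σ
      rw [evN_smul, evN_ΘFun, evN_ΘFun, evN_smul, mul_smul_comm])

/-- The multiplication map `B ⊗ C^n → C^{n+1}`. -/
noncomputable def Θ (n : ℕ) : BB Y ⊗[RR U] NN Y n →ₗ[RR U] NN Y (n + 1) :=
  TensorProduct.lift (Θbil n)

lemma Θ_tmul (n : ℕ) (b : BB Y) (c : NN Y n) : Θ n (b ⊗ₜ c) = ΘFun b c := rfl

lemma hcomm (n : ℕ) (z : BB Y ⊗[RR U] NN Y n) :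
    dDec n (Θ n z) = Θ (n + 1) ((δL n).lTensor (BB Y) z) := by
  induction z using TensorProduct.induction_on with
  | zero => rw [map_zero, map_zero, map_zero, map_zero]
  | add x y hx hy => rw [map_add, map_add, map_add, map_add, hx, hy]
  | tmul b c =>
    rw [LinearMap.lTensor_tmul, Θ_tmul, Θ_tmul]
    apply ext_evN
    intro τ
    show evN (dDecFun (ΘFun b c)) (can Y τ) = evN (ΘFun b (δ c)) (can Y τ)
    rw [evN_dDecFun, evN_ΘFun, evN_δ, Finset.mul_sum]
    refine Finset.sum_congr rfl fun j _ => ?_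
    rw [evN_ΘFun, mul_smul_comm]
    have h0 : (can Y τ ∘ j.succ.succAbove) 0 = can Y τ 0 := by
      show can Y τ (j.succ.succAbove 0) = can Y τ 0
      rw [Fin.succ_succAbove_zero]
    have h1 : (can Y τ ∘ j.succ.succAbove) ∘ Fin.succ = (can Y τ ∘ Fin.succ) ∘ j.succAbove := by
      funext k
      show can Y τ (j.succ.succAbove k.succ) = can Y τ (j.succAbove k).succ
      rw [Fin.succ_succAbove_succ]
    rw [h0, h1]

end Ops


section Descent

/-- Faithfully flat descent of exactness (universe-general version of the lead's `descent_core`). -/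
theorem descent_core' {R : Type*} [CommRing R] {B : Type*} [CommRing B] [Algebra R B]
    [Module.FaithfullyFlat R B]
    {N₀ N₁ : Type*} [AddCommGroup N₀] [Module R N₀] [AddCommGroup N₁] [Module R N₁]
    {N₀' N₁' : Type*} [AddCommGroup N₀'] [AddCommGroup N₁']
    (δ : N₀ →ₗ[R] N₁) (δ' : N₀' →+ N₁')
    (Θ₀ : B ⊗[R] N₀ →+ N₀') (Θ₁ : B ⊗[R] N₁ →+ N₁')
    (h₀ : Function.Surjective Θ₀) (h₁ : Function.Injective Θ₁)
    (hcomm : ∀ z, δ' (Θ₀ z) = Θ₁ (δ.lTensor B z))
    (x : N₁) (hx : ∃ y', δ' y' = Θ₁ ((1 : B) ⊗ₜ[R] x)) : ∃ y, δ y = x := by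
  obtain ⟨y', hy'⟩ := hx
  obtain ⟨z, rfl⟩ := h₀ y'
  rw [hcomm] at hy'
  have hz : δ.lTensor B z = (1 : B) ⊗ₜ[R] x := h₁ hy'
  let q : N₁ →ₗ[R] N₁ ⧸ LinearMap.range δ := (LinearMap.range δ).mkQ
  have hqδ : q ∘ₗ δ = 0 := by
    apply LinearMap.ext
    intro n
    show (LinearMap.range δ).mkQ (δ n) = 0
    rw [Submodule.mkQ_apply, Submodule.Quotient.mk_eq_zero]
    exact ⟨n, rfl⟩
  have h2 : q.lTensor B ((1 : B) ⊗ₜ[R] x) = 0 := by
    rw [← hz, ← LinearMap.comp_apply, ← LinearMap.lTensor_comp, hqδ, LinearMap.lTensor_zero,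
      LinearMap.zero_apply]
  rw [LinearMap.lTensor_tmul] at h2
  have h3 : q x = 0 :=
    (Module.FaithfullyFlat.one_tmul_eq_zero_iff R (N₁ ⧸ LinearMap.range δ) (A := B) (q x)).mp h2
  have h4 : x ∈ LinearMap.range δ := by
    rw [← Submodule.Quotient.mk_eq_zero]
    exact h3
  exact h4

variable {ι : Type (u + 1)} {Y : ι → Over U}

/-- Exactness of the Čech complex of functions in positive degrees, given bijectivity of the
multiplication maps. -/
theorem exists_of_cocycle [Module.FaithfullyFlat (RR U) (BB Y)]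
    (hΘ : ∀ m, Function.Bijective (Θ (Y := Y) m)) (n : ℕ) (x : NN Y (n + 1)) (hx : δ x = 0) :
    ∃ y : NN Y n, δ y = x := by
  refine descent_core' (δL n) (dDec n) (Θ n).toAddMonoidHom (Θ (n + 1)).toAddMonoidHom
    (hΘ n).2 (hΘ (n + 1)).1 (hcomm n) x ⟨x, ?_⟩
  apply ext_evN
  intro τ
  show evN (dDecFun x) (can Y τ) = evN (ΘFun 1 x) (can Y τ)
  rw [evN_dDecFun, evN_ΘFun, evB_one, one_mul]
  have h : evN (δ x) (can Y τ) = evN (0 : NN Y (n + 2)) (can Y τ) := by rw [hx]
  rw [evN_δ, evN_zero, Fin.sum_univ_succ] at h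
  have h2 : ∀ j : Fin (n + 2), (-1 : ℤ) ^ ((j.succ : Fin (n + 3)) : ℕ) •
      evN x (can Y τ ∘ j.succ.succAbove) = -((-1 : ℤ) ^ (j : ℕ) • evN x (can Y τ ∘ j.succ.succAbove)) := by
    intro j
    rw [Fin.val_succ, pow_succ, mul_neg_one, neg_smul]
  rw [Finset.sum_congr rfl (fun j _ => h2 j), Finset.sum_neg_distrib, Fin.val_zero, pow_zero,
    one_smul, add_neg_eq_zero] at h
  rw [← h]
  have h3 : (can Y τ ∘ (0 : Fin (n + 3)).succAbove) = can Y τ ∘ Fin.succ := by
    rw [Fin.succAbove_zero]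
  rw [h3]

end Descent


section Bridge

variable {ι : Type (u + 1)} {Y : ι → Over U}

/-- `dn` as an additive map. -/
def dnHom (V : Over U) : (PG U).obj (op V) →+ AA V where
  toFun := dn
  map_zero' := dn_zero
  map_add' := dn_add

/-- Cochains as elements of the product. -/
noncomputable def eN (n : ℕ) (a : (CK Y (PG U)).X n) : NN Y n := fun σ => dnHom _ (proj Y (PG U) n σ a)

/-- Elements of the product as cochains. -/
noncomputable def mkN (n : ℕ) (c : NN Y n) : (CK Y (PG U)).X n := mk Y (PG U) (fun σ => up (c σ))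

lemma eN_mkN (n : ℕ) (c : NN Y n) : eN n (mkN n c) = c := by
  funext σ
  unfold eN mkN
  rw [proj_mk]
  rfl

lemma eN_injective (n : ℕ) : Function.Injective (eN (Y := Y) n) := by
  intro a a' h
  apply ext_proj
  intro σ
  apply dn_injective
  exact congrFun h σ

lemma evN_eN (n : ℕ) (a : (CK Y (PG U)).X n) {V : Over U} (t : T Y n V) :
    evN (eN n a) t = dnHom V (ev Y (PG U) a t) := rfl

lemma eN_d (n : ℕ) (a : (CK Y (PG U)).X n) :
    eN (n + 1) ((CK Y (PG U)).d n (n + 1) a) = δ (eN n a) := by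
  apply ext_evN
  intro τ
  rw [evN_eN, evN_δ, ev_d, map_sum]
  refine Finset.sum_congr rfl fun k _ => ?_
  rw [map_zsmul, evN_eN]

lemma eN_zero (n : ℕ) : eN (Y := Y) n 0 = 0 := by
  funext σ
  unfold eN
  rw [map_zero, map_zero]
  rfl

/-- Acyclicity of the Čech complex of `G_a` follows from exactness on products. -/
theorem acyc_of_exact (n : ℕ)
    (h : ∀ x : NN Y (n + 1), δ x = 0 → ∃ y : NN Y n, δ y = x) : Acyc Y (PG U) n := by
  intro x hx
  have h1 : δ (eN (n + 1) x) = 0 := by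
    rw [← eN_d, hx, eN_zero]
  obtain ⟨y, hy⟩ := h _ h1
  refine ⟨mkN n y, ?_⟩
  apply eN_injective
  rw [eN_d, eN_mkN, hy]

end Bridge

end Groth.Agent.Lib.Helper22.GaAcyc
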