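import Groth.Agent.Lib.Helper22.ColimCohU.Etale

/-!
# The basis of affine étale schemes and finite affine coverings
-/

set_option autoImplicit false
set_option linter.unusedSectionVars false

universe u

open CategoryTheory CategoryTheory.Limits Opposite AlgebraicGeometry

namespace Groth.Agent.Lib.Helper22.GaAcyc

open Groth.Agent.Lib.Helper22.CechU Groth.Agent.Lib.Helper22.CechU.Site
open Groth.Agent.Lib.Helper22.CechU.Etale Groth.Agent.Lib.Helper22.EtLoc

variable {X : Scheme.{u}}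

/-- Étale `X`-schemes whose underlying scheme is affine. -/
def Ba (X : Scheme.{u}) : Set X.Etale := {U | IsAffine U.left}

lemma Ba_of_iso {U V : X.Etale} (e : U ≅ V) (hU : U ∈ Ba X) : V ∈ Ba X := by
  have : IsAffine U.left := hU
  let i : V.left ≅ U.left := (US X).mapIso e.symm
  exact IsAffine.of_isIso i.hom

lemma Ba_pullback {A B U : X.Etale} (f : A ⟶ U) (g : B ⟶ U) (hA : A ∈ Ba X) (hB : B ∈ Ba X)
    (hU : U ∈ Ba X) : pullback f g ∈ Ba X := by
  have : IsAffine A.left := hA
  have : IsAffine B.left := hB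
  have : IsAffine U.left := hU
  let i : (pullback f g).left ≅ pullback f.left g.left := PreservesPullback.iso (US X) f g
  have h1 : IsAffine (pullback f.left g.left) := inferInstance
  exact IsAffine.of_isIso i.hom

/-- The property of objects over `U` of having affine underlying scheme. -/
def Pa (U : X.Etale) : ObjectProperty (Over U) := fun Z => Z.left ∈ Ba X

instance (U : X.Etale) : (Pa U).IsClosedUnderIsomorphisms where
  of_iso e h := Ba_of_iso ((Over.forget U).mapIso e) h

lemma Pa_terminal {U : X.Etale} (hU : U ∈ Ba X) :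
    (Pa U).IsClosedUnderLimitsOfShape (Discrete.{0} PEmpty) where
  limitsOfShape_le := by
    rintro Z ⟨pres⟩
    have hZ : IsTerminal Z :=
      (isLimitEmptyConeEquiv _ (Cone.mk Z pres.π) (asEmptyCone Z) (Iso.refl _)) pres.isLimit
    have e : Over.mk (𝟙 U) ≅ Z := (IsTerminal.uniqueUpToIso hZ Over.mkIdTerminal).symm
    exact (Pa U).prop_of_iso e hU

lemma Pa_binary {U : X.Etale} (hU : U ∈ Ba X) :
    (Pa U).IsClosedUnderLimitsOfShape (Discrete WalkingPair) where
  limitsOfShape_le := by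
    rintro Z ⟨pres⟩
    let A := pres.diag.obj ⟨WalkingPair.left⟩
    let B := pres.diag.obj ⟨WalkingPair.right⟩
    have hA : A.left ∈ Ba X := pres.prop_diag_obj _
    have hB : B.left ∈ Ba X := pres.prop_diag_obj _
    let e : Z ≅ A ⨯ B :=
      IsLimit.conePointsIsoOfNatIso pres.isLimit (limit.isLimit (pair A B))
        (diagramIsoPair pres.diag)
    have h : (A ⨯ B).left ∈ Ba X :=
      Ba_of_iso (Over.prodLeftIsoPullback A B).symm (Ba_pullback A.hom B.hom hA hB hU)
    exact (Pa U).prop_of_iso e.symm h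

lemma Pa_finiteProducts {U : X.Etale} (hU : U ∈ Ba X) :
    (Pa U).IsClosedUnderFiniteProducts := by
  have := Pa_terminal hU
  have := Pa_binary hU
  exact ObjectProperty.IsClosedUnderFiniteProducts.mk'

lemma Ba_prod {U : X.Etale} (hU : U ∈ Ba X) {ι : Type (u + 1)} (Y : ι → Over U)
    (hY : ∀ i, (Y i).left ∈ Ba X) {p : ℕ} (a : Fin (p + 1) → ι) : (Uσ Y a).left ∈ Ba X := by
  have := Pa_finiteProducts hU
  exact (Pa U).prop_product (f := Y ∘ a) (fun j => hY (a j))

/-- Finite jointly surjective families of affine étale schemes over an affine étale scheme. -/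
def Cova (X : Scheme.{u}) (U : X.Etale) (ι : Type (u + 1)) (Y : ι → Over U) : Prop :=
  Finite ι ∧ U ∈ Ba X ∧ (∀ i, (Y i).left ∈ Ba X) ∧
    ∀ x : ↥(U.left), ∃ (i : ι) (y : ↥((Y i).left.left)), (Y i).hom.left.base y = x

/-- Refinement of a covering sieve of an affine étale scheme by a finite family of affines. -/
lemma exists_refinement (U : X.Etale) (hU : U ∈ Ba X) (T : Sieve U)
    (hT : T ∈ X.smallEtaleTopology U) :
    ∃ (ι : Type (u + 1)) (Y : ι → Over U), Cova X U ι Y ∧ ∀ i, T.arrows (Y i).hom := by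
  have key : ∀ x : ↥(U.left), ∃ (Z : Over U), T.arrows Z.hom ∧ IsAffine Z.left.left ∧
      x ∈ Set.range Z.hom.left.base := by
    intro x
    obtain ⟨V, f, y, hf, hy⟩ := (mem_smallEtaleTopology_iff U T).1 hT x
    have hE : Etale (V.hom : V.left ⟶ X) := V.prop
    obtain ⟨W, hW, hyW, -⟩ := exists_isAffineOpen_mem_and_subset (x := y) (U := ⊤) trivial
    let V' : X.Etale := Scheme.Etale.mk (W.ι ≫ V.hom)
    let g : V' ⟶ V := MorphismProperty.Over.homMk W.ι rfl trivial
    refine ⟨Over.mk (g ≫ f), T.downward_closed hf g, hW, ⟨⟨y, hyW⟩, ?_⟩⟩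
    exact hy
  choose Z hZT hZaff hZx using key
  have hUa : IsAffine U.left := hU
  have hc : CompactSpace ↥(U.left) := inferInstance
  have hopen : ∀ x, IsOpen (Set.range (Z x).hom.left.base) := fun x =>
    ((Z x).hom.left.isOpenMap).isOpen_range
  have hcov : (Set.univ : Set ↥(U.left)) ⊆ ⋃ x, Set.range (Z x).hom.left.base := by
    intro x _
    exact Set.mem_iUnion.2 ⟨x, hZx x⟩
  obtain ⟨t, ht⟩ := isCompact_univ.elim_finite_subcover _ hopen hcov
  refine ⟨ULift.{u + 1} t, fun i => Z i.down.1, ⟨inferInstance, hU, fun i => ?_, fun x => ?_⟩,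
    fun i => hZT _⟩
  · exact hZaff i.down.1
  · have := ht (Set.mem_univ x)
    simp only [Set.mem_iUnion, Set.mem_range] at this
    obtain ⟨i, hi, y, hy⟩ := this
    exact ⟨⟨⟨i, hi⟩⟩, y, hy⟩

lemma h1a (U : X.Etale) (ι : Type (u + 1)) (Y : ι → Over U) (h : Cova X U ι Y) :
    U ∈ Ba X ∧ Sieve.ofArrows (fun i => (Y i).left) (fun i => (Y i).hom) ∈
      X.smallEtaleTopology U ∧
      ∀ (p : ℕ) (a : Fin (p + 1) → ι), (Uσ Y a).left ∈ Ba X :=
  ⟨h.2.1, ofArrows_mem Y h.2.2.2, fun _ a => Ba_prod h.2.1 Y h.2.2.1 a⟩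

lemma h2a (U : X.Etale) (hU : U ∈ Ba X) (T : Sieve U) (hT : T ∈ X.smallEtaleTopology U) :
    ∃ (ι : Type (u + 1)) (Y : ι → Over U), Cova X U ι Y ∧ ∀ i, T.arrows (Y i).hom :=
  exists_refinement U hU T hT

lemma hfina (U : X.Etale) (ι : Type (u + 1)) (Y : ι → Over U) (h : Cova X U ι Y) : Finite ι :=
  h.1

lemma top_mem_Ba (X : Scheme.{u}) [IsAffine X] : EtCoh.top X ∈ Ba X :=
  ‹IsAffine X›

end Groth.Agent.Lib.Helper22.GaAcyc
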