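import Groth.Agent.Lib.Helper22.GaAcyc.Kunneth

set_option autoImplicit false
set_option linter.unusedSectionVars false
universe u
open CategoryTheory CategoryTheory.Limits Opposite AlgebraicGeometry TensorProduct

namespace Groth.Agent.Lib.Helper22.GaAcyc
open Groth.Agent.Lib.Helper22.CechU Groth.Agent.Lib.Helper22.CechU.Site
open Groth.Agent.Lib.Helper22.CechU.Etale Groth.Agent.Lib.Helper22.EtLoc

variable {S : Scheme.{u}} {U : S.Etale}

section FF

lemma flat_AA (hU : U ∈ Ba S) (V : Over U) (hV : V.left ∈ Ba S) : Module.Flat (RR U) (AA V) := by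
  have h1 : IsAffine U.left := hU
  have h2 : IsAffine V.left.left := hV
  exact Scheme.Hom.flat_appTop V.hom.left

variable {ι : Type (u + 1)} [Finite ι] {Y : ι → Over U}

lemma flat_BB (hU : U ∈ Ba S) (hY : ∀ i, (Y i).left ∈ Ba S) : Module.Flat (RR U) (BB Y) := by
  classical
  have := Fintype.ofFinite ι
  have : ∀ i, Module.Flat (RR U) (AA (Y i)) := fun i => flat_AA hU (Y i) (hY i)
  exact Module.Flat.of_linearEquiv
    (DFinsupp.linearEquivFunOnFintype (R := RR U) (M := fun i => AA (Y i))).symm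

/-- A point of an affine scheme in the image of a morphism of affine schemes gives a prime in the
image of `comap`. -/
lemma exists_comap_eq {X Z : Scheme.{u}} [IsAffine X] [IsAffine Z] (f : X ⟶ Z)
    (𝔭 : PrimeSpectrum Γ(Z, ⊤)) (y : X) (hy : f.base y = Z.isoSpec.inv.base 𝔭) :
    ∃ 𝔮 : PrimeSpectrum Γ(X, ⊤), PrimeSpectrum.comap f.appTop.hom 𝔮 = 𝔭 := by
  refine ⟨X.isoSpec.hom.base y, ?_⟩
  have h1 := Scheme.isoSpec_hom_naturality f
  have h2 : (Spec.map f.appTop).base (X.isoSpec.hom.base y) = Z.isoSpec.hom.base (f.base y) := by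
    have := congrArg (fun g => g.base y) h1
    simpa using this
  have h3 : Z.isoSpec.hom.base (Z.isoSpec.inv.base 𝔭) = 𝔭 := by
    have := congrArg (fun g => g.base 𝔭) Z.isoSpec.inv_hom_id
    simpa using this
  rw [hy, h3] at h2
  exact h2

theorem faithfullyFlat_BB (h : Cova S U ι Y) : Module.FaithfullyFlat (RR U) (BB Y) := by
  obtain ⟨-, hU, hY, hsurj⟩ := h
  have hflat := flat_BB hU hY
  have h1 : IsAffine U.left := hU
  refine Module.FaithfullyFlat.of_comap_surjective fun 𝔭 => ?_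
  obtain ⟨i, y, hy⟩ := hsurj (U.left.isoSpec.inv.base 𝔭)
  have h2 : IsAffine (Y i).left.left := hY i
  obtain ⟨𝔮, h𝔮⟩ := exists_comap_eq (Y i).hom.left 𝔭 y hy
  refine ⟨PrimeSpectrum.comap (Pi.evalRingHom (fun i => AA (Y i)) i) 𝔮, ?_⟩
  rw [← PrimeSpectrum.comap_comp_apply]
  exact h𝔮

end FF

end Groth.Agent.Lib.Helper22.GaAcyc
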