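import Groth.Agent.Lib.Helper22.GaAcyc.Alg

set_option autoImplicit false
set_option linter.unusedSectionVars false
universe u
open CategoryTheory CategoryTheory.Limits Opposite AlgebraicGeometry TensorProduct

namespace Groth.Agent.Lib.Helper22.GaAcyc
open Groth.Agent.Lib.Helper22.CechU Groth.Agent.Lib.Helper22.CechU.Site
open Groth.Agent.Lib.Helper22.CechU.Etale Groth.Agent.Lib.Helper22.EtLoc

section Algebra

lemma bijective_productMap_of_isPushout {R A B P : Type u} [CommRing R] [CommRing A] [CommRing B]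
    [CommRing P] [Algebra R A] [Algebra R B] [Algebra R P] (f : A →ₐ[R] P) (g : B →ₐ[R] P)
    (h : IsPushout (CommRingCat.ofHom (algebraMap R A)) (CommRingCat.ofHom (algebraMap R B))
      (CommRingCat.ofHom f.toRingHom) (CommRingCat.ofHom g.toRingHom)) :
    Function.Bijective (Algebra.TensorProduct.productMap f g) := by
  let e := (CommRingCat.isPushout_tensorProduct R A B).isoIsPushout _ _ h
  have hl : ∀ a : A, e.hom.hom (a ⊗ₜ[R] (1 : B)) = f a := fun a => by
    have := IsPushout.inl_isoIsPushout_hom _ _ (CommRingCat.isPushout_tensorProduct R A B) h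
    exact congrArg (fun φ : CommRingCat.of A ⟶ CommRingCat.of P => φ.hom a) this
  have hr : ∀ b : B, e.hom.hom ((1 : A) ⊗ₜ[R] b) = g b := fun b => by
    have := IsPushout.inr_isoIsPushout_hom _ _ (CommRingCat.isPushout_tensorProduct R A B) h
    exact congrArg (fun φ : CommRingCat.of B ⟶ CommRingCat.of P => φ.hom b) this
  have heq : ∀ z : A ⊗[R] B, Algebra.TensorProduct.productMap f g z = e.hom.hom z := by
    intro z
    induction z using TensorProduct.induction_on with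
    | zero => rw [map_zero, map_zero]
    | add x y hx hy => rw [map_add, map_add, hx, hy]
    | tmul a b =>
      rw [Algebra.TensorProduct.productMap_apply_tmul]
      have : a ⊗ₜ[R] b = (a ⊗ₜ[R] (1 : B)) * ((1 : A) ⊗ₜ[R] b) := by
        rw [Algebra.TensorProduct.tmul_mul_tmul, mul_one, one_mul]
      rw [this, map_mul, hl, hr]
  have hb : Function.Bijective e.hom.hom := ConcreteCategory.bijective_of_isIso e.hom
  have : (Algebra.TensorProduct.productMap f g : A ⊗[R] B → P) = e.hom.hom := funext heq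
  rw [this]
  exact hb

end Algebra

section PiTensor

variable {R : Type*} [CommRing R] {I J : Type*} [Finite I] [Finite J] {M : I → Type*}
  {N : J → Type*} [∀ i, AddCommGroup (M i)] [∀ i, Module R (M i)] [∀ j, AddCommGroup (N j)]
  [∀ j, Module R (N j)]

lemma sum_single_comp_proj {I : Type*} [Fintype I] [DecidableEq I] {M : I → Type*}
    [∀ i, AddCommGroup (M i)] [∀ i, Module R (M i)] :
    (∑ i, (LinearMap.single R M i) ∘ₗ (LinearMap.proj i)) = (LinearMap.id : (∀ i, M i) →ₗ[R] _) := by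
  apply LinearMap.ext
  intro x
  rw [LinearMap.sum_apply]
  funext i'
  rw [Finset.sum_apply]
  simp

lemma tensor_pi_eq_zero (z : (∀ i, M i) ⊗[R] (∀ j, N j))
    (h : ∀ i j, TensorProduct.map (LinearMap.proj i) (LinearMap.proj j) z = 0) : z = 0 := by
  classical
  have := Fintype.ofFinite I
  have := Fintype.ofFinite J
  have h0 : z = TensorProduct.map (LinearMap.id : (∀ i, M i) →ₗ[R] _)
      (LinearMap.id : (∀ j, N j) →ₗ[R] _) z := by
    rw [TensorProduct.map_id]
    rfl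
  rw [h0, ← sum_single_comp_proj (R := R) (M := M), ← sum_single_comp_proj (R := R) (M := N),
    ← TensorProduct.mapBilinear_apply, map_sum, LinearMap.sum_apply]
  refine Finset.sum_eq_zero fun j _ => ?_
  rw [map_sum, LinearMap.sum_apply, LinearMap.sum_apply]
  refine Finset.sum_eq_zero fun i _ => ?_
  rw [TensorProduct.mapBilinear_apply, TensorProduct.map_comp, LinearMap.comp_apply, h i j, map_zero]

end PiTensor


variable {S : Scheme.{u}} {U : S.Etale}

section Fan

variable {ι : Type (u + 1)} (Y : ι → Over U) {m : ℕ} (τ : Fin (m + 2) → ι)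

/-- The first projection. -/
noncomputable def π0 : Uσ Y τ ⟶ Y (τ 0) := Pi.π (Y ∘ τ) 0

/-- Forgetting the first factor. -/
noncomputable def sh : Uσ Y τ ⟶ Uσ Y (τ ∘ Fin.succ) := toProd Y (can Y τ ∘ Fin.succ)

lemma sh_π (j : Fin (m + 1)) :
    sh Y τ ≫ Pi.π (Y ∘ (τ ∘ Fin.succ)) j = Pi.π (Y ∘ τ) j.succ :=
  toProd_π Y (can Y τ ∘ Fin.succ) j

/-- The lift into the product of a pair of morphisms. -/
noncomputable def fanLift {T : Over U} (f : T ⟶ Y (τ 0)) (g : T ⟶ Uσ Y (τ ∘ Fin.succ)) :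
    T ⟶ Uσ Y τ :=
  Pi.lift (f := Y ∘ τ) (fun k => Fin.cases (motive := fun k => T ⟶ Y (τ k)) f
    (fun j => g ≫ Pi.π (Y ∘ (τ ∘ Fin.succ)) j) k)

lemma fanLift_π0 {T : Over U} (f : T ⟶ Y (τ 0)) (g : T ⟶ Uσ Y (τ ∘ Fin.succ)) :
    fanLift Y τ f g ≫ π0 Y τ = f := by
  unfold fanLift π0
  rw [Pi.lift_π]
  rfl

lemma fanLift_succ {T : Over U} (f : T ⟶ Y (τ 0)) (g : T ⟶ Uσ Y (τ ∘ Fin.succ)) (j : Fin (m + 1)) :
    fanLift Y τ f g ≫ Pi.π (Y ∘ τ) j.succ = g ≫ Pi.π (Y ∘ (τ ∘ Fin.succ)) j := by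
  unfold fanLift
  rw [Pi.lift_π]
  rfl

lemma fanLift_sh {T : Over U} (f : T ⟶ Y (τ 0)) (g : T ⟶ Uσ Y (τ ∘ Fin.succ)) :
    fanLift Y τ f g ≫ sh Y τ = g := by
  refine Pi.hom_ext (f := Y ∘ (τ ∘ Fin.succ)) _ _ (fun j => ?_)
  rw [Category.assoc, sh_π, fanLift_succ]

/-- `U_τ` is the product of `Y_{τ 0}` and `U_{τ ∘ succ}`. -/
noncomputable def fanIsLimit : IsLimit (BinaryFan.mk (π0 Y τ) (sh Y τ)) :=
  BinaryFan.isLimitMk (fun s => fanLift Y τ s.fst s.snd)
    (fun s => fanLift_π0 Y τ s.fst s.snd) (fun s => fanLift_sh Y τ s.fst s.snd)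
    (fun s m h1 h2 => by
      refine Pi.hom_ext (f := Y ∘ τ) _ _ (fun k => ?_)
      refine Fin.cases ?_ (fun j => ?_) k
      · exact h1.trans (fanLift_π0 Y τ s.fst s.snd).symm
      · rw [fanLift_succ, ← h2, Category.assoc, sh_π])

lemma isPullback_fan :
    IsPullback (π0 Y τ).left (sh Y τ).left (Y (τ 0)).hom (Uσ Y (τ ∘ Fin.succ)).hom :=
  Over.isPullback_of_binaryFan_isLimit _ (fanIsLimit Y τ)

end Fan


section Kunneth

variable {ι : Type (u + 1)} (Y : ι → Over U) {m : ℕ} (τ : Fin (m + 2) → ι)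

/-- The Künneth map `Γ(Y_{τ 0}) ⊗ Γ(U_{τ ∘ succ}) → Γ(U_τ)`. -/
noncomputable def κ : AA (Y (τ 0)) ⊗[RR U] AA (Uσ Y (τ ∘ Fin.succ)) →ₐ[RR U] AA (Uσ Y τ) :=
  Algebra.TensorProduct.productMap (pull (π0 Y τ)) (pull (sh Y τ))

lemma κ_tmul (b : AA (Y (τ 0))) (c : AA (Uσ Y (τ ∘ Fin.succ))) :
    κ Y τ (b ⊗ₜ c) = pull (π0 Y τ) b * pull (sh Y τ) c :=
  Algebra.TensorProduct.productMap_apply_tmul _ _ _ _

lemma isPullback_fan_scheme :
    IsPullback (π0 Y τ).left.left (sh Y τ).left.left (Y (τ 0)).hom.left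
      (Uσ Y (τ ∘ Fin.succ)).hom.left :=
  (isPullback_fan Y τ).map (US S)

theorem κ_bijective (hU : U ∈ Ba S) (hY : ∀ i, (Y i).left ∈ Ba S) :
    Function.Bijective (κ Y τ) := by
  have h1 : IsAffine U.left := hU
  have h2 : IsAffine (Y (τ 0)).left.left := hY (τ 0)
  have h3 : IsAffine (Uσ Y (τ ∘ Fin.succ)).left.left := Ba_prod hU Y hY (τ ∘ Fin.succ)
  have hpo := isPushout_appTop_of_isPullback (isPullback_fan_scheme Y τ)
  exact bijective_productMap_of_isPushout (pull (π0 Y τ)) (pull (sh Y τ)) hpo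

end Kunneth


section ThetaBij

variable {ι : Type (u + 1)} [Finite ι] {Y : ι → Over U}

lemma Θ_apply (m : ℕ) (z : BB Y ⊗[RR U] NN Y m) (τ : Fin (m + 2) → ι) :
    Θ m z τ = κ Y τ (TensorProduct.map (LinearMap.proj (τ 0)) (LinearMap.proj (τ ∘ Fin.succ)) z) := by
  induction z using TensorProduct.induction_on with
  | zero => rw [map_zero, map_zero, map_zero]; rfl
  | add x y hx hy => rw [map_add, Pi.add_apply, hx, hy, map_add, map_add]
  | tmul b c =>
    rw [Θ_tmul, TensorProduct.map_tmul, κ_tmul]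
    rfl

theorem Θ_injective (hU : U ∈ Ba S) (hY : ∀ i, (Y i).left ∈ Ba S) (m : ℕ) :
    Function.Injective (Θ (Y := Y) m) := by
  rw [injective_iff_map_eq_zero]
  intro z hz
  apply tensor_pi_eq_zero
  intro i σ
  have h1 : Θ m z (Fin.cons i σ) = 0 := by rw [hz]; rfl
  rw [Θ_apply] at h1
  have h2 := (κ_bijective Y (Fin.cons i σ : Fin (m + 2) → ι) hU hY).1 (h1.trans (map_zero _).symm)
  exact h2

theorem Θ_surjective (hU : U ∈ Ba S) (hY : ∀ i, (Y i).left ∈ Ba S) (m : ℕ) :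
    Function.Surjective (Θ (Y := Y) m) := by
  classical
  have := Fintype.ofFinite ι
  have key : ∀ (τ₀ : Fin (m + 2) → ι) (a : AA (Uσ Y τ₀)),
      (Pi.single τ₀ a : NN Y (m + 1)) ∈ LinearMap.range (Θ (Y := Y) m) := by
    intro τ₀ a
    obtain ⟨z₀, hz₀⟩ := (κ_bijective Y τ₀ hU hY).2 a
    refine ⟨TensorProduct.map (LinearMap.single (RR U) (fun i => AA (Y i)) (τ₀ 0))
      (LinearMap.single (RR U) (fun σ : Fin (m + 1) → ι => AA (Uσ Y σ)) (τ₀ ∘ Fin.succ)) z₀, ?_⟩
    funext τ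
    rw [Θ_apply, ← LinearMap.comp_apply, ← TensorProduct.map_comp]
    by_cases h : τ = τ₀
    · subst h
      rw [LinearMap.proj_comp_single_same, LinearMap.proj_comp_single_same, TensorProduct.map_id,
        LinearMap.id_apply, hz₀, Pi.single_eq_same]
    · rw [Pi.single_eq_of_ne h]
      have hne : τ 0 ≠ τ₀ 0 ∨ τ ∘ Fin.succ ≠ τ₀ ∘ Fin.succ := by
        by_contra hh
        rw [not_or, not_not, not_not] at hh
        apply h
        funext k
        exact Fin.cases hh.1 (fun j => congrFun hh.2 j) k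
      rcases hne with h0 | h1
      · rw [LinearMap.proj_comp_single_ne _ _ _ _ h0, TensorProduct.map_zero_left,
          LinearMap.zero_apply, map_zero]
      · rw [LinearMap.proj_comp_single_ne _ _ _ _ h1, TensorProduct.map_zero_right,
          LinearMap.zero_apply, map_zero]
  intro w
  have hw : w = ∑ τ, Pi.single τ (w τ) := (Finset.univ_sum_single w).symm
  have hmem : w ∈ LinearMap.range (Θ (Y := Y) m) := by
    rw [hw]
    exact Submodule.sum_mem _ (fun τ _ => key τ (w τ))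
  exact hmem

theorem Θ_bijective (hU : U ∈ Ba S) (hY : ∀ i, (Y i).left ∈ Ba S) (m : ℕ) :
    Function.Bijective (Θ (Y := Y) m) :=
  ⟨Θ_injective hU hY m, Θ_surjective hU hY m⟩

end ThetaBij

end Groth.Agent.Lib.Helper22.GaAcyc
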