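import Groth.Agent.Lib.Helper22.GaAcyc.FF

/-!
# Vanishing of the higher étale cohomology of `G_a` on affine schemes
-/

set_option autoImplicit false
set_option linter.unusedSectionVars false
universe u
open CategoryTheory CategoryTheory.Limits Opposite AlgebraicGeometry TensorProduct

namespace Groth.Agent.Lib.Helper22.GaAcyc
open Groth.Agent.Lib.Helper22.CechU Groth.Agent.Lib.Helper22.CechU.Site
open Groth.Agent.Lib.Helper22.CechU.Etale Groth.Agent.Lib.Helper22.EtLoc
open Groth.Agent.Lib.Helper22.ColimCohU Groth.Agent.Lib.Helper22.ColimCohU.Etale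

/-- `G_a` is Čech-acyclic for finite affine coverings of affine étale schemes. -/
theorem covAcyclic_Ga (S : Scheme.{u}) : CovAcyclic (Cova S) (EtCoh.Ga S) := by
  intro U ι Y hcov p
  have hfin : Finite ι := hcov.1
  have hff := faithfullyFlat_BB hcov
  exact acyc_of_exact p (fun x hx =>
    exists_of_cocycle (fun m => Θ_bijective hcov.2.1 hcov.2.2.1 m) p x hx)

/-- The higher étale cohomology of `G_a` on an affine scheme vanishes. -/
theorem H_Ga_eq_zero (S : Scheme.{u}) [IsAffine S] (n : ℕ) (x : EtCoh.H S (EtCoh.Ga S) (n + 1)) :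
    x = 0 :=
  ext_eq_zero_of_covAcyclic (J := S.smallEtaleTopology) (B := Ba S) (Cov := Cova S)
    (fun Q => isSheaf_forget Q) h1a h2a hfina (ZX S) (EtCoh.top S) (top_mem_Ba S)
    (fun G => Sheaf.H.equiv₀ G (EtCore.topIsTerminal S))
    (fun {G G'} φ x => (Sheaf.H.equiv₀_naturality (hT := EtCore.topIsTerminal S) φ x).symm)
    (EtCoh.Ga S) (covAcyclic_Ga S) n x

theorem subsingleton_H_Ga (S : Scheme.{u}) [IsAffine S] (p : ℕ) (hp : 1 ≤ p) :
    Subsingleton (EtCoh.H S (EtCoh.Ga S) p) := by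
  obtain ⟨n, rfl⟩ : ∃ n, p = n + 1 := ⟨p - 1, by omega⟩
  exact ⟨fun x y => (H_Ga_eq_zero S n x).trans (H_Ga_eq_zero S n y).symm⟩

end Groth.Agent.Lib.Helper22.GaAcyc
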